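import Groth.Agent.VADesc.ImmAtDescend
import Groth.Agent.RGLib.PnVeryAmple
import Groth.Agent.RGLib.VAmpleImm
import Mathlib.AlgebraicGeometry.Sites.SheafQuasiCompact

/-!
# Very ampleness descends along faithfully flat quasi-compact base change
-/

set_option linter.style.haveILetI false
set_option linter.unusedSectionVars false
set_option backward.isDefEq.respectTransparency false
set_option backward.isDefEq.respectTransparency.types false
set_option autoImplicit false
set_option maxHeartbeats 1000000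

noncomputable section

universe u

open CategoryTheory CategoryTheory.Limits AlgebraicGeometry TopologicalSpace Opposite

namespace Groth.Agent.VADesc

open Groth.Agent

variable {X Y Y' X' : Scheme.{u}} {f : X ⟶ Y} {q : Y' ⟶ Y} {f' : X' ⟶ Y'} {q' : X' ⟶ X} {L : X.Modules}

/-- A section upstairs with a frame at a point comes with a section downstairs with a frame below it. -/
theorem exists_locus_below [IsAffine Y] [IsAffine Y'] [QuasiCompact f] [QuasiSeparated f] [Flat q]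
    (h : IsPullback q' f' f q) (hL : PicF.IsInvertible L) {x' : X'}
    {t : Γ((Scheme.Modules.pullback q').obj L, f' ⁻¹ᵁ ⊤)} (ht : x' ∈ AmpleX.locus t) :
    ∃ e : Γ(L, f ⁻¹ᵁ ⊤), q' x' ∈ AmpleX.locus e := by
  by_contra hne
  push_neg at hne
  obtain ⟨V, hxV, e₀, he₀⟩ := InvX.exists_frame hL (q' x')
  let L' := (Scheme.Modules.pullback q').obj L
  have hx'V : x' ∈ q' ⁻¹ᵁ V := hxV
  have he' : InvX.IsFrame (InvX.pullElt q' e₀) := InvX.isFrame_pullElt q' he₀
  have key : ∀ t : Γ(L', f' ⁻¹ᵁ ⊤), ∀ c : Γ(X', q' ⁻¹ᵁ V), AModX.res L' (le_top : q' ⁻¹ᵁ V ≤ f' ⁻¹ᵁ ⊤) t = c • InvX.pullElt q' e₀ →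
      x' ∉ X'.basicOpen c := by
    intro t
    refine pullSec_induction h (ProjUPX.isQCoh_of_isInvertible hL) (isAffineOpen_top Y) (isAffineOpen_top Y') le_top
      (fun t => ∀ c : Γ(X', q' ⁻¹ᵁ V), AModX.res L' (le_top : q' ⁻¹ᵁ V ≤ f' ⁻¹ᵁ ⊤) t = c • InvX.pullElt q' e₀ → x' ∉ X'.basicOpen c)
      ?_ ?_ ?_ t
    · intro c hc
      rw [map_zero] at hc
      have : c = 0 := he'.coord_unique le_rfl (by rw [AModX.res_self, zero_smul]; exact hc.symm)
      rw [this, Scheme.basicOpen_zero]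
      exact id
    · intro a b ha hb c hc
      obtain ⟨ca, hca⟩ := he'.exists_coord le_rfl (AModX.res L' (le_top : q' ⁻¹ᵁ V ≤ f' ⁻¹ᵁ ⊤) a)
      obtain ⟨cb, hcb⟩ := he'.exists_coord le_rfl (AModX.res L' (le_top : q' ⁻¹ᵁ V ≤ f' ⁻¹ᵁ ⊤) b)
      rw [AModX.res_self] at hca hcb
      have hc' : c = ca + cb := he'.coord_unique le_rfl
        (by rw [AModX.res_self, ← hc, map_add, hca, hcb, add_smul])
      have ha' := ha ca hca
      have hb' := hb cb hcb
      rw [hc']
      rw [Scheme.mem_basicOpen _ _ _ hx'V, ← mem_nonunits_iff, ← IsLocalRing.mem_maximalIdeal] at ha' hb' ⊢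
      rw [map_add]
      exact Ideal.add_mem _ ha' hb'
    · intro c₀ m c hc
      obtain ⟨r, hr⟩ := he₀.exists_coord le_rfl (AModX.res L (le_top : V ≤ f ⁻¹ᵁ ⊤) m)
      rw [AModX.res_self] at hr
      have hrx : q' x' ∉ X.basicOpen r := fun hmem => by
        refine hne m ?_
        have h2 := AmpleX.locus_inf m (le_top : V ≤ f ⁻¹ᵁ ⊤) he₀ hr
        exact (h2.ge hmem).1
      have hc' : c = AModX.resR (le_top : q' ⁻¹ᵁ V ≤ ⊤) (f'.app ⊤ c₀) * q'.app V r := by
        refine he'.coord_unique le_rfl ?_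
        rw [AModX.res_self, ← hc, mul_smul, AModX.res_smul]
        refine congrArg (_ • ·) ?_
        refine (AModX.res_res (M := L') _ _ _).trans ?_
        show AModX.res L' (q'.preimage_mono (le_top : V ≤ f ⁻¹ᵁ ⊤)) (InvX.pullElt q' m) = _
        erw [InvX.res_pullElt q' (le_top : V ≤ f ⁻¹ᵁ ⊤) m, hr, InvX.pullElt_smul]
      rw [hc', Scheme.basicOpen_mul, ← Scheme.preimage_basicOpen]
      exact fun hmem => hrx hmem.2
  obtain ⟨c, hc⟩ := he'.exists_coord le_rfl (AModX.res L' (le_top : q' ⁻¹ᵁ V ≤ f' ⁻¹ᵁ ⊤) t)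
  rw [AModX.res_self] at hc
  exact key t c hc ((AmpleX.locus_inf t (le_top : q' ⁻¹ᵁ V ≤ f' ⁻¹ᵁ ⊤) he' hc).le ⟨ht, hx'V⟩)

/-- Descent of very ampleness over an affine base. -/
theorem isRelVeryAmple_of_baseChange_affine [IsAffine Y] [IsAffine Y'] [QuasiCompact f] [Flat q] [Surjective q]
    (h : IsPullback q' f' f q) (hL : PicF.IsInvertible L)
    (hva : RelProj.IsRelVeryAmple f' ((Scheme.Modules.pullback q').obj L)) : RelProj.IsRelVeryAmple f L := by
  haveI : IsSeparated f' := SymX.isSeparated_of_isRelVeryAmple hva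
  haveI : IsSeparated f := EtFound.fpqc_isSeparated.of_isPullback (f := q) h.flip
    ⟨⟨‹Surjective q›, ‹Flat q›⟩, inferInstance⟩ ‹IsSeparated f'›
  haveI : QuasiCompact f' := MorphismProperty.of_isPullback h inferInstance
  let L' := (Scheme.Modules.pullback q').obj L
  have hL' : PicF.IsInvertible L' := PicClLib.isInvertible_pullback q' hL
  have hE' : Coh.IsQCoh ((Scheme.Modules.pushforward f').obj L') :=
    QCoh.isQCoh_pushforward f' (ProjUPX.isQCoh_of_isInvertible hL')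
  obtain ⟨E₁, hE₁, θ₁, h₁⟩ := SymX.exists_immPoints_of_isRelVeryAmple hva
  have h₂ := immPoints_id h₁
  obtain ⟨A⟩ := SymX.nonempty_bundle hE'
  obtain ⟨r, ⟨hr, hrc⟩, -⟩ := SymX.existsUnique_isCompat' A.C A.isRelTwist A.isRelProj hE' A.isTaut
    (θ := 𝟙 ((Scheme.Modules.pushforward f').obj L')) h₂.gen
  haveI := SymX.isImmersion_of_immPoints A hr hrc h₂
  refine SymX.isRelVeryAmple_of_immPoints (QCoh.isQCoh_pushforward f (ProjUPX.isQCoh_of_isInvertible hL))
    (θ := 𝟙 _) fun x => ?_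
  haveI : Surjective q' := MorphismProperty.of_isPullback h.flip inferInstance
  obtain ⟨x', rfl⟩ := q'.surjective x
  obtain ⟨t, ht⟩ := exists_global_locus hL' h₁ x'
  obtain ⟨e, he⟩ := exists_locus_below h hL ht
  exact ⟨⊤, isAffineOpen_top Y, e, he, immAt_descend h hL e fun e' =>
    SymX.immAt_of_immersion A hr hrc (isAffineOpen_top Y') e'⟩

/-- Descent of very ampleness along a faithfully flat quasi-compact morphism. -/
theorem isRelVeryAmple_of_baseChange [QuasiCompact f] [Flat q] [Surjective q] [QuasiCompact q]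
    (h : IsPullback q' f' f q) (hL : PicF.IsInvertible L)
    (hva : RelProj.IsRelVeryAmple f' ((Scheme.Modules.pullback q').obj L)) : RelProj.IsRelVeryAmple f L := by
  refine (SymX.isRelVeryAmple_iff_restrict (fun U : Y.affineOpens => U.1) (iSup_affineOpens_eq_top Y) hL).2 fun U => ?_
  let jX := (f ⁻¹ᵁ U.1).ι
  haveI : IsAffine U.1.toScheme := U.2
  haveI : CompactSpace (q ⁻¹ᵁ U.1).toScheme := isCompact_iff_compactSpace.mp (q.isCompact_preimage U.2.isCompact)
  let 𝒰 := (q ⁻¹ᵁ U.1).toScheme.affineCover.finiteSubcover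
  haveI : ∀ i, IsAffine (𝒰.X i) := fun i => by
    dsimp [𝒰, Scheme.OpenCover.finiteSubcover]
    infer_instance
  let ρ : (∐ 𝒰.X) ⟶ (q ⁻¹ᵁ U.1).toScheme := Sigma.desc 𝒰.f
  haveI : IsAffine (∐ 𝒰.X) := inferInstance
  haveI : Surjective ρ := ⟨fun y => by
    obtain ⟨i, z, hz⟩ := 𝒰.exists_eq y
    exact ⟨Sigma.ι 𝒰.X i z, by rw [← Scheme.Hom.comp_apply, Sigma.ι_desc]; exact hz⟩⟩
  haveI : Flat ρ := inferInstanceAs (Flat (Sigma.desc 𝒰.f))
  let q₁ : (∐ 𝒰.X) ⟶ U.1.toScheme := ρ ≫ (q ∣_ U.1)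
  haveI : Flat (q ∣_ U.1) := MorphismProperty.of_isPullback (isPullback_morphismRestrict q U.1).flip inferInstance
  haveI : Surjective (q ∣_ U.1) := MorphismProperty.of_isPullback (isPullback_morphismRestrict q U.1).flip inferInstance
  -- the two squares
  let P := pullback (f ∣_ U.1) q₁
  have hsq₁ := IsPullback.of_hasPullback (f ∣_ U.1) q₁
  let σ : P ⟶ X' := h.lift (pullback.fst _ _ ≫ jX) (pullback.snd _ _ ≫ ρ ≫ (q ⁻¹ᵁ U.1).ι) (by
    rw [Category.assoc, Category.assoc, Category.assoc, ← morphismRestrict_ι q U.1,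
      ← morphismRestrict_ι f U.1, pullback.condition_assoc]
    simp only [q₁, Category.assoc])
  have hσ : IsPullback σ (pullback.snd (f ∣_ U.1) q₁) f' (ρ ≫ (q ⁻¹ᵁ U.1).ι) :=
    IsPullback.of_right (by
      rw [show σ ≫ q' = pullback.fst _ _ ≫ jX from h.lift_fst _ _ _,
        show (ρ ≫ (q ⁻¹ᵁ U.1).ι) ≫ q = q₁ ≫ U.1.ι by simp only [q₁, Category.assoc, morphismRestrict_ι]]
      exact hsq₁.paste_horiz (isPullback_morphismRestrict f U.1).flip)
      (h.lift_snd _ _ _) h
  have hva₁ := SymX.isRelVeryAmple_baseChange hσ hva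
  refine isRelVeryAmple_of_baseChange_affine hsq₁ (AmpleX.isInvertible_restrict jX hL) ?_
  refine SymX.isRelVeryAmple_of_iso ?_ hva₁
  exact (Scheme.Modules.pullbackComp σ q').app L ≪≫
    (Scheme.Modules.pullbackCongr (show σ ≫ q' = pullback.fst _ _ ≫ jX from h.lift_fst _ _ _)).app L ≪≫
    ((Scheme.Modules.pullbackComp _ jX).app L).symm ≪≫
    (Scheme.Modules.pullback _).mapIso ((Scheme.Modules.restrictFunctorIsoPullback jX).app L).symm

/-- The two ways of saying that a module is very ample for a morphism of finite type. -/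
theorem forall_exists_pn_iff (f : X ⟶ Y) [LocallyOfFiniteType f] [QuasiCompact f] (hL : PicF.IsInvertible L) :
    (∀ y : Y, ∃ U : Y.Opens, y ∈ U ∧ RelAmple.IsRelVeryAmplePn (f ∣_ U) (L.restrict (f ⁻¹ᵁ U).ι)) ↔
      RelProj.IsRelVeryAmple f L := by
  refine ⟨fun h => ?_, fun h y => ?_⟩
  · choose U hyU hU using h
    exact RGLib.PnVeryAmple.isRelVeryAmple_of_cover f L hL U
      (eq_top_iff.2 fun y _ => Opens.mem_iSup.2 ⟨y, hyU y⟩) hU
  · obtain ⟨_, ⟨U, hU, rfl⟩, hyU, -⟩ := Y.isBasis_affineOpens.exists_subset_of_mem_open (Set.mem_univ y) isOpen_univ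
    haveI : IsAffine (Scheme.Opens.toScheme U) := hU
    refine ⟨U, hyU, RGLib.VAmpleImm.isRelVeryAmplePn_of_isRelVeryAmple _
      (AmpleX.isInvertible_restrict _ hL) (SymX.isRelVeryAmple_of_iso
        ((Scheme.Modules.restrictFunctorIsoPullback _).app L).symm
        (SymX.isRelVeryAmple_baseChange (isPullback_morphismRestrict f U).flip h))⟩

end Groth.Agent.VADesc
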