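import Groth.Agent.SymX.ImmLocal
import Groth.Agent.GGDesc.Basic
import Groth.Agent.AmpleX.QAGenerated
import Groth.Agent.RGLib.Lim8Ample

/-!
# Sections on the total space over an affine base
-/

set_option linter.style.haveILetI false
set_option linter.unusedSectionVars false
set_option backward.isDefEq.respectTransparency false
set_option backward.isDefEq.respectTransparency.types false
set_option autoImplicit false

noncomputable section

universe u

open CategoryTheory CategoryTheory.Limits AlgebraicGeometry TopologicalSpace Opposite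
open scoped TensorProduct

namespace Groth.Agent.VADesc

open Groth.Agent

variable {X Y : Scheme.{u}} {g : X ⟶ Y} {E : Y.Modules} {L : X.Modules}
  {θ : E ⟶ (Scheme.Modules.pushforward g).obj L}

/-- Embedding ratios pass to the pushforward of the module. -/
theorem immPoints_id (h : SymX.ImmPoints g θ) :
    SymX.ImmPoints g (𝟙 ((Scheme.Modules.pushforward g).obj L)) := by
  intro x
  obtain ⟨U, hU, e, hxe, himm⟩ := h x
  refine ⟨U, hU, SymX.th g θ e, hxe, ?_⟩
  refine @SymX.isImmersion_subSpec_of_le _ _ _ (Subring.closure (SymX.ratioSet g θ e)) (Subring.closure_mono ?_) himm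
  rintro a (h' | ⟨m, hm⟩)
  · exact Or.inl h'
  · exact Or.inr ⟨SymX.th g θ m, hm⟩

/-- Over an affine base, global sections have frames everywhere as soon as local ones do. -/
theorem exists_global_locus [IsAffine Y] [QuasiCompact g] [QuasiSeparated g] (hL : PicF.IsInvertible L)
    (h : SymX.ImmPoints g θ) (x : X) : ∃ e : Γ(L, g ⁻¹ᵁ ⊤), x ∈ AmpleX.locus e := by
  obtain ⟨U, hU, e₁, hxe, -⟩ := h x
  let e' : Γ(L, g ⁻¹ᵁ U) := SymX.th g θ e₁
  have hxU : g x ∈ U := AmpleX.locus_le (SymX.th g θ e₁) hxe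
  obtain ⟨_, ⟨_, ⟨r, rfl⟩, rfl⟩, hxr, hrU⟩ := (isBasis_basicOpen Y).exists_subset_of_mem_open hxU U.2
  obtain ⟨n, T, hT⟩ := QCoh.exists_pow_smul_eq_map_of_isQuasiSeparated
    (M := (Scheme.Modules.pushforward g).obj L)
    (QCoh.isQCoh_pushforward g (ProjUPX.isQCoh_of_isInvertible hL))
    (isAffineOpen_top Y).isCompact (isAffineOpen_top Y).isQuasiSeparated r
    (AModX.res L (g.preimage_mono hrU) e')
  refine ⟨T, ?_⟩
  have h1 : x ∈ AmpleX.locus (AModX.res L (g.preimage_mono (Y.basicOpen_le r)) (show Γ(L, g ⁻¹ᵁ ⊤) from T)) := by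
    have hT' : AModX.res L (g.preimage_mono (Y.basicOpen_le r)) (show Γ(L, g ⁻¹ᵁ ⊤) from T) =
        g.app (Y.basicOpen r) (AModX.resR (Y.basicOpen_le r) r ^ n) • AModX.res L (g.preimage_mono hrU) e' := hT
    rw [hT', AmpleX.locus_smul hL, AmpleX.locus_res]
    refine ⟨⟨hxe, hxr⟩, ?_⟩
    rw [← Scheme.preimage_basicOpen]
    exact (RingedSpace.mem_basicOpen _ _ _ hxr).2 (((AModX.isUnit_resR _ _ le_rfl).pow n).map _)
  rw [AmpleX.locus_res] at h1
  exact h1.1

variable {S S' X' : Scheme.{u}} {f : X ⟶ S} {q : S' ⟶ S} {f' : X' ⟶ S'} {q' : X' ⟶ X}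

/-- Sections over the preimage of an affine open are combinations of pulled back sections. -/
theorem pullSec_induction [QuasiCompact f] [QuasiSeparated f] [Flat q] (h : IsPullback q' f' f q)
    {F : X.Modules} (hF : Coh.IsQCoh F) {V : S.Opens} (hV : IsAffineOpen V) {W : S'.Opens} (hW : IsAffineOpen W)
    (hle : W ≤ q ⁻¹ᵁ V) (P : Γ((Scheme.Modules.pullback q').obj F, f' ⁻¹ᵁ W) → Prop) (h0 : P 0)
    (hadd : ∀ a b, P a → P b → P (a + b))
    (hsmul : ∀ c s, P (f'.app W c • QCoh.pullSec q' F (CohPullLib.sectLE h.w hle) s))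
    (t : Γ((Scheme.Modules.pullback q').obj F, f' ⁻¹ᵁ W)) : P t := by
  letI : Algebra Γ(S, V) Γ(S', W) := (q.appLE V W hle).hom.toAlgebra
  let M := (Scheme.Modules.pushforward f).obj F
  letI : Module Γ(S, V) Γ((Scheme.Modules.pullback q).obj M, W) := Module.compHom _ (q.appLE V W hle).hom
  haveI : IsScalarTower Γ(S, V) Γ(S', W) Γ((Scheme.Modules.pullback q).obj M, W) :=
    ⟨fun a b c => mul_smul ((q.appLE V W hle).hom a) b c⟩
  obtain ⟨l₀, hl₀, hb₀⟩ := ExistEasy.exists_pullSec_baseChange q (QCoh.isQCoh_pushforward f hF) hW hV hle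
  obtain ⟨z, rfl⟩ := (FlatBC6.bijective_bc0_app_flat h hF hV hW hle).2
    (show Γ((Scheme.Modules.pushforward f').obj ((Scheme.Modules.pullback q').obj F), W) from t)
  obtain ⟨w, rfl⟩ := hb₀.equiv.surjective z
  induction w using TensorProduct.induction_on with
  | zero => simp only [map_zero]; exact h0
  | add a b ha hb =>
    simp only [map_add]
    exact hadd _ _ ha hb
  | tmul c m =>
    rw [IsBaseChange.equiv_tmul, hl₀]
    refine Eq.mpr (congrArg P ((Scheme.Modules.Hom.app_smul (CohBC.bc0 f q f' q' h.w F) c _).trans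
      (congrArg (c • ·) (CohPullLib.bc0_app_pullSec h.w F hle m)))) ?_
    exact hsmul c m

end Groth.Agent.VADesc
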