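import Groth.Agent.VADesc.Basic
import Groth.Agent.S1124
import Groth.Agent.EtFound.Descent

/-!
# Embedding ratios descend along faithfully flat base change of an affine base
-/

set_option linter.style.haveILetI false
set_option linter.unusedSectionVars false
set_option backward.isDefEq.respectTransparency false
set_option backward.isDefEq.respectTransparency.types false
set_option autoImplicit false
set_option maxHeartbeats 1000000

noncomputable section

universe u

open CategoryTheory CategoryTheory.Limits AlgebraicGeometry TopologicalSpace Opposite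
open scoped TensorProduct

namespace Groth.Agent.VADesc

open Groth.Agent

variable {X Y Y' X' : Scheme.{u}} {f : X ⟶ Y} {q : Y' ⟶ Y} {f' : X' ⟶ Y'} {q' : X' ⟶ X} {L : X.Modules}

lemma eq_toSpecΓ_comp {W : Scheme.{u}} [IsAffine W] (T : X.Opens) (k : T.toScheme ⟶ W) :
    k = T.toSpecΓ ≫ Spec.map (k.appTop ≫ T.topIso.hom) ≫ W.isoSpec.inv := by
  rw [Scheme.Opens.toSpecΓ, Category.assoc, ← Spec.map_comp_assoc, Category.assoc, Iso.hom_inv_id,
    Category.comp_id, ← Scheme.toSpecΓ_naturality_assoc, Scheme.toSpecΓ_isoSpec_inv, Category.comp_id]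

lemma isImmersion_of_eq {T T' : X.Opens} (h : T = T') {A : CommRingCat.{u}} (ψ : A ⟶ Γ(X, T'))
    (hi : IsImmersion (T.toSpecΓ ≫ Spec.map (ψ ≫ X.presheaf.map (eqToHom h).op))) :
    IsImmersion (T'.toSpecΓ ≫ Spec.map ψ) := by
  subst h
  simpa using hi

lemma topIso_inv_restrict_topIso_hom (k : X' ⟶ X) (T : X.Opens) :
    T.topIso.inv ≫ (k ∣_ T).appTop ≫ (k ⁻¹ᵁ T).topIso.hom = k.app T := by
  simp [Scheme.Opens.topIso, Scheme.Hom.app_eq_appLE, morphismRestrict_appLE, Scheme.Hom.appLE_map,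
    Scheme.Hom.map_appLE]

/-- The rings of functions generated by the ratios, compared along the base change. -/
theorem immAt_descend [IsAffine Y] [IsAffine Y'] [QuasiCompact f] [IsSeparated f] [Flat q] [Surjective q]
    (h : IsPullback q' f' f q) (hL : PicF.IsInvertible L) (e : Γ(L, f ⁻¹ᵁ ⊤))
    (h' : ∀ e' : Γ((Scheme.Modules.pullback q').obj L, f' ⁻¹ᵁ ⊤),
      SymX.ImmAt f' (𝟙 ((Scheme.Modules.pushforward f').obj ((Scheme.Modules.pullback q').obj L))) (U := ⊤) e') :
    SymX.ImmAt f (𝟙 ((Scheme.Modules.pushforward f).obj L)) (U := ⊤) e := by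
  haveI : CompactSpace X := QuasiCompact.compactSpace_of_compactSpace f
  let L' := (Scheme.Modules.pullback q').obj L
  let T := AmpleX.locus e
  let R := Subring.closure (SymX.ratioSet f (𝟙 ((Scheme.Modules.pushforward f).obj L)) (U := ⊤) e)
  show IsImmersion (SymX.subSpec T R)
  -- the ring generated by the ratios lies over the base
  let a : Γ(Y, ⊤) ⟶ CommRingCat.of R := CommRingCat.ofHom
    ((f.appLE ⊤ T le_top).hom.codRestrict R fun r =>
      Subring.subset_closure (Or.inl ⟨r, rfl⟩))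
  let b : Spec (CommRingCat.of R) ⟶ Y := Spec.map a ≫ Y.isoSpec.inv
  let s : T.toScheme ⟶ Spec (CommRingCat.of R) := SymX.subSpec T R
  have hsb : s ≫ b = T.ι ≫ f := by
    have hg : s ≫ Spec.map a = T.ι ≫ f ≫ Y.toSpecΓ := by
      show (T.toSpecΓ ≫ Spec.map (CommRingCat.ofHom R.subtype)) ≫ Spec.map a = _
      rw [Category.assoc, ← Spec.map_comp,
        show a ≫ CommRingCat.ofHom R.subtype = f.appLE ⊤ T le_top from rfl,
        Scheme.Opens.toSpecΓ_SpecMap_appLE, Scheme.Opens.toSpecΓ_top, Scheme.Hom.resLE_comp_ι_assoc]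
    rw [show s ≫ b = (s ≫ Spec.map a) ≫ Y.isoSpec.inv from (Category.assoc _ _ _).symm, hg, Category.assoc,
      Category.assoc, Scheme.toSpecΓ_isoSpec_inv, Category.comp_id]
  let T' := q' ⁻¹ᵁ T
  have hT : IsPullback (q' ∣_ T) (T'.ι ≫ f') (T.ι ≫ f) q := (isPullback_morphismRestrict q' T).paste_vert h
  let W := pullback b q
  haveI : IsAffine W := inferInstance
  let s' : T'.toScheme ⟶ W := pullback.lift ((q' ∣_ T) ≫ s) (T'.ι ≫ f') (by rw [Category.assoc, hsb, hT.w])
  have hs : IsPullback (q' ∣_ T) s' s (pullback.fst b q) :=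
    IsPullback.of_bot (by rw [show s' ≫ pullback.snd b q = T'.ι ≫ f' from pullback.lift_snd _ _ _, hsb]; exact hT)
      (pullback.lift_fst _ _ _).symm (IsPullback.of_hasPullback b q)
  have hTc : IsCompact (T : Set X) := by
    have := RGLib.Lim8.isCompact_genLocus hL (InvX.ofSect (show Γ(L, ⊤) from e))
    rwa [AmpleX.genLocus_eq_locus, InvX.one_ofSect] at this
  haveI : QuasiCompact q' := MorphismProperty.of_isPullback h.flip inferInstance
  haveI : CompactSpace T'.toScheme := isCompact_iff_compactSpace.mp (q'.isCompact_preimage hTc)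
  -- upstairs
  let e' : Γ(L', f' ⁻¹ᵁ ⊤) := InvX.pullElt q' e
  have hloc : AmpleX.locus e' = T' := AmpleX.locus_pullElt hL q' e
  have himm : IsImmersion (SymX.subSpec (AmpleX.locus e')
      (Subring.closure (SymX.ratioSet f' (𝟙 ((Scheme.Modules.pushforward f').obj L')) (U := ⊤) e'))) := h' e'
  let ψ : Γ(W, ⊤) ⟶ Γ(X', T') := s'.appTop ≫ T'.topIso.hom
  have hs' : s' = T'.toSpecΓ ≫ Spec.map ψ ≫ W.isoSpec.inv := eq_toSpecΓ_comp T' s'
  -- the functions pulled back from below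
  have hψ₁ : ∀ r : R, q'.app T r.1 ∈ ψ.hom.range := fun r => by
    refine ⟨(pullback.fst b q).appTop ((Scheme.ΓSpecIso (CommRingCat.of R)).inv r), ?_⟩
    have e1 : (pullback.fst b q).appTop ≫ ψ = (s.appTop ≫ (q' ∣_ T).appTop) ≫ T'.topIso.hom := by
      show _ ≫ s'.appTop ≫ _ = _
      rw [← Category.assoc, ← Scheme.Hom.comp_appTop, ← Scheme.Hom.comp_appTop, pullback.lift_fst]
    have e2 : (Scheme.ΓSpecIso (CommRingCat.of R)).inv ≫ (pullback.fst b q).appTop ≫ ψ =
        CommRingCat.ofHom R.subtype ≫ q'.app T := by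
      rw [e1]
      show _ ≫ ((T.toSpecΓ ≫ Spec.map (CommRingCat.ofHom R.subtype)).appTop ≫ _) ≫ _ = _
      simp only [Scheme.Hom.comp_appTop, Scheme.Opens.toSpecΓ_appTop, Category.assoc]
      rw [← Scheme.ΓSpecIso_inv_naturality_assoc, Iso.inv_hom_id_assoc, topIso_inv_restrict_topIso_hom]
    exact DFunLike.congr_fun (congrArg CommRingCat.Hom.hom e2) r
  have hψ₂ : ∀ c : Γ(Y', ⊤), AModX.resR (le_top : T' ≤ ⊤) (f'.app ⊤ c) ∈ ψ.hom.range := fun c => by
    refine ⟨(pullback.snd b q).appTop c, ?_⟩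
    have e1 : (pullback.snd b q).appTop ≫ ψ = f'.app ⊤ ≫ X'.presheaf.map (homOfLE (le_top : T' ≤ ⊤)).op := by
      show _ ≫ s'.appTop ≫ _ = _
      rw [← Category.assoc, ← Scheme.Hom.comp_appTop, pullback.lift_snd, Scheme.Hom.comp_appTop, Category.assoc]
      simp [Scheme.Opens.topIso, Scheme.Hom.app_eq_appLE, Scheme.Opens.ι_appLE, Scheme.Hom.appLE_map]
    exact DFunLike.congr_fun (congrArg CommRingCat.Hom.hom e1) c
  -- the ring upstairs is in the range
  have hfr : InvX.IsFrame (AModX.res L (AmpleX.locus_le e) e) := AmpleX.isFrame_res_locus e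
  have hfr' : InvX.IsFrame (AModX.res L' (le_top : T' ≤ f' ⁻¹ᵁ ⊤) e') :=
    AmpleX.isFrame_res_of_le e' hloc.ge
  have hrange : ∀ t : Γ(L', f' ⁻¹ᵁ ⊤), ∃ c ∈ ψ.hom.range,
      AModX.res L' (le_top : T' ≤ f' ⁻¹ᵁ ⊤) t = c • AModX.res L' (le_top : T' ≤ f' ⁻¹ᵁ ⊤) e' := by
    intro t
    refine pullSec_induction h (ProjUPX.isQCoh_of_isInvertible hL) (isAffineOpen_top Y) (isAffineOpen_top Y') le_top
      (fun t => ∃ c ∈ ψ.hom.range,
        AModX.res L' (le_top : T' ≤ f' ⁻¹ᵁ ⊤) t = c • AModX.res L' (le_top : T' ≤ f' ⁻¹ᵁ ⊤) e')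
      ⟨0, zero_mem _, by rw [map_zero, zero_smul]⟩
      (fun a b ⟨c, hc, h1⟩ ⟨d, hd, h2⟩ => ⟨c + d, add_mem hc hd, by rw [map_add, h1, h2, add_smul]⟩) ?_ t
    intro c m
    obtain ⟨r, hr⟩ := hfr.exists_coord le_rfl (AModX.res L (AmpleX.locus_le e) m)
    rw [AModX.res_self] at hr
    have hrR : r ∈ R := Subring.subset_closure (Or.inr ⟨m, hr⟩)
    refine ⟨AModX.resR (le_top : T' ≤ ⊤) (f'.app ⊤ c) * q'.app T r, mul_mem (hψ₂ c) (hψ₁ ⟨r, hrR⟩), ?_⟩
    rw [AModX.res_smul, mul_smul]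
    refine congrArg (_ • ·) ?_
    have h1 : AModX.res L' (le_top : T' ≤ f' ⁻¹ᵁ ⊤) (InvX.pullElt q' m) =
        q'.app T r • AModX.res L' (le_top : T' ≤ f' ⁻¹ᵁ ⊤) e' := by
      show AModX.res L' (q'.preimage_mono (AmpleX.locus_le e)) (InvX.pullElt q' m) = _
      erw [InvX.res_pullElt q' (AmpleX.locus_le e) m, hr, InvX.pullElt_smul, ← InvX.res_pullElt]
      rfl
    exact (AModX.res_res (M := L') _ _ _).trans h1
  have hle : Subring.closure (SymX.ratioSet f' (𝟙 ((Scheme.Modules.pushforward f').obj L')) (U := ⊤) e') ≤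
      (ψ ≫ X'.presheaf.map (eqToHom hloc).op).hom.range := by
    refine Subring.closure_le.2 ?_
    rintro x (⟨c, rfl⟩ | ⟨m, hm⟩)
    · obtain ⟨z, hz⟩ := hψ₂ c
      refine ⟨z, ?_⟩
      show AModX.resR hloc.le (ψ.hom z) = _
      rw [hz, AModX.resR_resR]
      rfl
    · obtain ⟨c, ⟨z, hz⟩, hc⟩ := hrange m
      refine ⟨z, (AmpleX.isFrame_res_locus e').coord_unique le_rfl ?_⟩
      rw [AModX.res_self]
      refine Eq.trans ?_ hm
      show AModX.resR hloc.le (ψ.hom z) • _ = _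
      rw [hz]
      refine Eq.trans ?_ ((congrArg (AModX.res L' hloc.le) hc).symm.trans (AModX.res_res (M := L') _ _ _))
      rw [AModX.res_smul, AModX.res_res]
      rfl
  haveI : IsImmersion ((AmpleX.locus e').toSpecΓ ≫ Spec.map (ψ ≫ X'.presheaf.map (eqToHom hloc).op)) :=
    @SymX.isImmersion_comp_of_subSpec _ _ _ _ _ hle himm
  haveI : IsImmersion s' := by
    haveI := isImmersion_of_eq hloc ψ this
    rw [hs', ← Category.assoc]
    infer_instance
  haveI : QuasiCompact s' := by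
    exact quasiCompact_of_compactSpace _
  haveI : Surjective (pullback.fst b q) := MorphismProperty.pullback_fst _ _ inferInstance
  haveI : QuasiCompact (pullback.fst b q) := MorphismProperty.pullback_fst _ _ inferInstance
  exact (S1124.result.of_isPullback (f := pullback.fst b q) hs.flip
    ⟨⟨‹Surjective _›, inferInstance⟩, ‹QuasiCompact _›⟩ ⟨‹IsImmersion s'›, ‹QuasiCompact s'›⟩).1

end Groth.Agent.VADesc
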